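import Mathlib.GroupTheory.GroupAction.Jordan
import Mathlib.GroupTheory.Perm.Cycle.Type
import Mathlib.GroupTheory.SpecificGroups.Alternating
import Mathlib.Tactic

/-!
Minimal degree of a doubly transitive group not containing the alternating group.
-/

set_option autoImplicit false

namespace Cfsg.Agent.MinDeg72

open Finset

variable {α : Type*} [Fintype α] [DecidableEq α]

/-- Two permutations whose supports meet in a single point have a 3-cycle as commutator. -/
theorem isThreeCycle_commutator (g g' : Equiv.Perm α) {a : α}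
    (ha : a ∈ g.support) (ha' : a ∈ g'.support)
    (honly : ∀ x, x ∈ g.support → x ∈ g'.support → x = a) :
    Equiv.Perm.IsThreeCycle (g * g' * g⁻¹ * g'⁻¹) := by
  have hfix' : ∀ x, x ∈ g.support → x ≠ a → g' x = x := fun x hx hxa =>
    Equiv.Perm.notMem_support.mp fun h => hxa (honly x hx h)
  have hfix : ∀ x, x ∈ g'.support → x ≠ a → g x = x := fun x hx hxa =>
    Equiv.Perm.notMem_support.mp fun h => hxa (honly x h hx)
  have hga : g a ≠ a := Equiv.Perm.mem_support.mp ha
  have hg'a : g' a ≠ a := Equiv.Perm.mem_support.mp ha'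
  set c := g * g' * g⁻¹ * g'⁻¹ with hc
  have hca : c a = g a := by
    simp only [hc, Equiv.Perm.mul_apply]
    have hy : g'⁻¹ a ∈ g'.support := by
      rwa [← Equiv.Perm.apply_mem_support (f := g'), ← Equiv.Perm.mul_apply, mul_inv_cancel,
        Equiv.Perm.one_apply]
    have hya : g'⁻¹ a ≠ a := fun h => hg'a (by rw [Equiv.Perm.inv_eq_iff_eq] at h; exact h.symm)
    rw [Equiv.Perm.inv_eq_iff_eq.mpr (hfix _ hy hya).symm]
    simp
  have hsub : c.support ⊆ {a, g a, g' a} := by
    intro x hx
    by_contra hx3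
    simp only [mem_insert, mem_singleton, not_or] at hx3
    obtain ⟨hxa, hxb, hxb'⟩ := hx3
    apply Equiv.Perm.mem_support.mp hx
    simp only [hc, Equiv.Perm.mul_apply]
    by_cases hx' : x ∈ g'.support
    · have hy : g'⁻¹ x ∈ g'.support := by
        rwa [← Equiv.Perm.apply_mem_support (f := g'), ← Equiv.Perm.mul_apply, mul_inv_cancel,
          Equiv.Perm.one_apply]
      have hya : g'⁻¹ x ≠ a := fun h => hxb' (by rw [Equiv.Perm.inv_eq_iff_eq] at h; exact h)
      rw [Equiv.Perm.inv_eq_iff_eq.mpr (hfix _ hy hya).symm]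
      simp [hfix x hx' hxa]
    · rw [Equiv.Perm.inv_eq_iff_eq.mpr (Equiv.Perm.notMem_support.mp hx').symm]
      by_cases hxA : x ∈ g.support
      · have hu : g⁻¹ x ∈ g.support := by
          rwa [← Equiv.Perm.apply_mem_support (f := g), ← Equiv.Perm.mul_apply, mul_inv_cancel,
            Equiv.Perm.one_apply]
        have hua : g⁻¹ x ≠ a := fun h => hxb (by rw [Equiv.Perm.inv_eq_iff_eq] at h; exact h)
        rw [hfix' _ hu hua]
        simp
      · have h1 := Equiv.Perm.notMem_support.mp hxA
        rw [Equiv.Perm.inv_eq_iff_eq.mpr h1.symm, Equiv.Perm.notMem_support.mp hx', h1]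
  have hle : c.support.card ≤ 3 :=
    (card_le_card hsub).trans card_le_three
  have hne : c ≠ 1 := fun h => hga (by rw [← hca, h, Equiv.Perm.one_apply])
  have hge : 2 ≤ c.support.card := Equiv.Perm.two_le_card_support_of_ne_one hne
  rw [← card_support_eq_three_iff]
  rcases (show c.support.card = 2 ∨ c.support.card = 3 by omega) with h2 | h3
  · exfalso
    have h := (Equiv.Perm.card_support_eq_two.mp h2).sign_eq
    rw [hc, map_mul, map_mul, map_mul, map_inv, map_inv, mul_right_comm _ _ (Equiv.Perm.sign g)⁻¹,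
      mul_inv_cancel, one_mul, mul_inv_cancel] at h
    exact absurd h (by decide)
  · exact h3

theorem two_transitive_degree_sq {H : Subgroup (Equiv.Perm α)}
    (hH : MulAction.IsMultiplyPretransitive H α 2) (hprim : MulAction.IsPreprimitive H α)
    (hA : ¬ alternatingGroup α ≤ H) {g : Equiv.Perm α} (hg : g ∈ H) (hg1 : g ≠ 1) :
    Fintype.card α ≤ g.support.card ^ 2 := by
  classical
  haveI : MulAction.IsPretransitive H α := hprim.toIsPretransitive
  set A := g.support with hAdef
  set m := A.card with hm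
  set n := Fintype.card α with hn
  set M := Fintype.card H with hMdef
  have hMpos : 0 < M := Fintype.card_pos
  have hm2 : 2 ≤ m := Equiv.Perm.two_le_card_support_of_ne_one hg1
  -- the translated support
  let S : H → Finset α := fun h => ((h : Equiv.Perm α) * g * (h : Equiv.Perm α)⁻¹).support
  have hS : ∀ (h : H) (x : α), x ∈ S h ↔ (h⁻¹ • x) ∈ A := by
    intro h x
    show x ∈ ((h : Equiv.Perm α) * g * (h : Equiv.Perm α)⁻¹).support ↔
      ((h : Equiv.Perm α)⁻¹ x) ∈ g.support
    simp [Equiv.Perm.mem_support, ← Equiv.Perm.eq_inv_iff_eq]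
  have hfib1 : ∀ c x : α, n * (univ.filter fun h : H => h⁻¹ • c = x).card = M := by
    intro c x
    have key : ∀ y, (univ.filter fun h : H => h⁻¹ • c = y).card =
        (univ.filter fun h : H => h⁻¹ • c = x).card := by
      intro y
      obtain ⟨k, hk⟩ := MulAction.exists_smul_eq H y x
      refine card_nbij' (fun h => h * k⁻¹) (fun h => h * k) ?_ ?_ ?_ ?_
      · intro h hh
        simp only [coe_filter, mem_univ, true_and, Set.mem_setOf_eq] at hh ⊢
        rw [mul_inv_rev, inv_inv, mul_smul, hh, hk]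
      · intro h hh
        simp only [coe_filter, mem_univ, true_and, Set.mem_setOf_eq] at hh ⊢
        rw [mul_inv_rev, mul_smul, hh, inv_smul_eq_iff, hk]
      · intro h _; simp
      · intro h _; simp
    have h2 := card_eq_sum_card_fiberwise (s := (univ : Finset H)) (t := (univ : Finset α))
      (f := fun h : H => h⁻¹ • c) (fun _ _ => mem_univ _)
    rw [sum_congr rfl (fun y _ => key y), sum_const, card_univ, smul_eq_mul] at h2
    exact h2.symm
  have hN1 : ∀ c, n * (univ.filter fun h : H => c ∈ S h).card = M * m := by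
    intro c
    have h2 := card_eq_sum_card_fiberwise (s := univ.filter fun h : H => c ∈ S h) (t := A)
      (f := fun h : H => h⁻¹ • c) (fun h hh => (hS h c).mp (mem_filter.mp hh).2)
    rw [h2, mul_sum]
    rw [sum_congr rfl (g := fun _ => M) ?_, sum_const, smul_eq_mul, mul_comm]
    intro x hx
    rw [← hfib1 c x, filter_filter]
    congr 2
    refine filter_congr fun h _ => ⟨fun r => r.2, fun r => ⟨(hS h c).mpr (r ▸ hx), r⟩⟩
  have hfib2 : ∀ c d x y : α, c ≠ d → x ≠ y →
      n * (n - 1) * (univ.filter fun h : H => h⁻¹ • c = x ∧ h⁻¹ • d = y).card = M := by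
    intro c d x y hcd hxy
    let T : Finset (α × α) := (univ : Finset α).offDiag
    have key : ∀ p ∈ T, (univ.filter fun h : H => (h⁻¹ • c, h⁻¹ • d) = p).card =
        (univ.filter fun h : H => h⁻¹ • c = x ∧ h⁻¹ • d = y).card := by
      rintro ⟨u, v⟩ hp
      obtain ⟨k, hk1, hk2⟩ := MulAction.is_two_pretransitive_iff.mp hH
        (mem_offDiag.mp hp).2.2 hxy
      refine card_nbij' (fun h => h * k⁻¹) (fun h => h * k) ?_ ?_ ?_ ?_
      · intro h hh
        simp only [coe_filter, mem_univ, true_and, Set.mem_setOf_eq, Prod.mk.injEq] at hh ⊢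
        rw [mul_inv_rev, inv_inv, mul_smul, mul_smul, hh.1, hh.2]
        exact ⟨hk1, hk2⟩
      · intro h hh
        simp only [coe_filter, mem_univ, true_and, Set.mem_setOf_eq, Prod.mk.injEq] at hh ⊢
        rw [mul_inv_rev, mul_smul, mul_smul, hh.1, hh.2, inv_smul_eq_iff, inv_smul_eq_iff, hk1,
          hk2]
        exact ⟨rfl, rfl⟩
      · intro h _; simp
      · intro h _; simp
    have h2 := card_eq_sum_card_fiberwise (s := (univ : Finset H)) (t := T)
      (f := fun h : H => (h⁻¹ • c, h⁻¹ • d)) (fun h _ => mem_offDiag.mpr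
        ⟨mem_univ _, mem_univ _, fun e => hcd (smul_left_cancel _ e)⟩)
    rw [sum_congr rfl key, sum_const, offDiag_card, card_univ, smul_eq_mul, card_univ] at h2
    rw [hMdef, h2, Nat.mul_sub_one]
  have hN2 : ∀ c d, c ≠ d →
      n * (n - 1) * (univ.filter fun h : H => c ∈ S h ∧ d ∈ S h).card = M * (m * (m - 1)) := by
    intro c d hcd
    have h2 := card_eq_sum_card_fiberwise (s := univ.filter fun h : H => c ∈ S h ∧ d ∈ S h)
      (t := A.offDiag) (f := fun h : H => (h⁻¹ • c, h⁻¹ • d)) (fun h hh => mem_offDiag.mpr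
        ⟨(hS h c).mp (mem_filter.mp hh).2.1, (hS h d).mp (mem_filter.mp hh).2.2,
          fun e => hcd (smul_left_cancel _ e)⟩)
    rw [h2, mul_sum]
    rw [sum_congr rfl (g := fun _ => M) ?_, sum_const, smul_eq_mul, offDiag_card, mul_comm,
      Nat.mul_sub_one]
    rintro ⟨x, y⟩ hp
    obtain ⟨hx, hy, hxy⟩ := mem_offDiag.mp hp
    rw [← hfib2 c d x y hcd hxy, filter_filter]
    congr 2
    refine filter_congr fun h _ => ⟨fun r => ?_, fun r => ⟨⟨?_, ?_⟩, ?_⟩⟩
    · exact Prod.mk.injEq .. ▸ r.2
    · exact (hS h c).mpr (r.1 ▸ hx)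
    · exact (hS h d).mpr (r.2 ▸ hy)
    · rw [r.1, r.2]
  -- qualifying pairs have intersection of size at least two
  let P : Finset (α × H) := (A ×ˢ univ).filter fun p => p.1 ∈ S p.2 ∧ g p.1 ∉ S p.2
  have hX : ∀ p ∈ P, 2 ≤ (A ∩ S p.2).card := by
    rintro ⟨a, h⟩ hp
    simp only [P, mem_filter, mem_product, mem_univ, and_true] at hp
    obtain ⟨haA, haS, -⟩ := hp
    by_contra hlt
    have h1 : (A ∩ S h).card ≤ 1 := by
      change ¬ 2 ≤ (A ∩ S h).card at hlt
      omega
    apply hA
    refine Equiv.Perm.alternatingGroup_le_of_isPreprimitive_of_isThreeCycle_mem hprim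
      (isThreeCycle_commutator g ((h : Equiv.Perm α) * g * (h : Equiv.Perm α)⁻¹) haA haS ?_) ?_
    · intro x hx hx'
      exact card_le_one.mp h1 x (mem_inter.mpr ⟨hx, hx'⟩) a (mem_inter.mpr ⟨haA, haS⟩)
    · have hh : (h : Equiv.Perm α) * g * (h : Equiv.Perm α)⁻¹ ∈ H :=
        mul_mem (mul_mem h.2 hg) (inv_mem h.2)
      exact mul_mem (mul_mem (mul_mem hg hh) (inv_mem hg)) (inv_mem hh)
  -- second moment
  have hup : 2 * P.card ≤ ∑ h : H, (A ∩ S h).card * (A ∩ S h).card := by
    calc 2 * P.card = ∑ _p ∈ P, 2 := by rw [sum_const, smul_eq_mul, mul_comm]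
      _ ≤ ∑ p ∈ P, (A ∩ S p.2).card := sum_le_sum hX
      _ ≤ ∑ p ∈ (A ×ˢ univ).filter (fun p : α × H => p.1 ∈ S p.2), (A ∩ S p.2).card :=
          sum_le_sum_of_subset fun p hp => by
            simp only [P, mem_filter] at hp ⊢
            exact ⟨hp.1, hp.2.1⟩
      _ = ∑ h : H, (A ∩ S h).card * (A ∩ S h).card := by
          rw [sum_filter, sum_product_right]
          refine sum_congr rfl fun h _ => ?_
          show (∑ a ∈ A, if a ∈ S h then (A ∩ S h).card else 0) = _
          rw [← sum_filter, sum_const, smul_eq_mul, filter_mem_eq_inter]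
  have hPcard : P.card = ∑ a ∈ A, (univ.filter fun h : H => a ∈ S h ∧ g a ∉ S h).card := by
    simp only [P, card_filter, sum_product]
  have hsplit : ∀ a, (univ.filter fun h : H => a ∈ S h ∧ g a ∉ S h).card +
      (univ.filter fun h : H => a ∈ S h ∧ g a ∈ S h).card =
      (univ.filter fun h : H => a ∈ S h).card := by
    intro a
    rw [← filter_filter, ← filter_filter, add_comm]
    exact card_filter_add_card_filter_not _
  have hmom : ∑ h : H, (A ∩ S h).card * (A ∩ S h).card =
      ∑ a ∈ A, ((univ.filter fun h : H => a ∈ S h).card +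
        ∑ b ∈ A.erase a, (univ.filter fun h : H => a ∈ S h ∧ b ∈ S h).card) := by
    have e1 : ∀ h : H, (A ∩ S h).card * (A ∩ S h).card =
        ∑ a ∈ A, ∑ b ∈ A, (if a ∈ S h ∧ b ∈ S h then 1 else 0) := by
      intro h
      rw [← filter_mem_eq_inter, card_filter, sum_mul_sum]
      refine sum_congr rfl fun a _ => sum_congr rfl fun b _ => ?_
      by_cases h1 : a ∈ S h <;> by_cases h2 : b ∈ S h <;> simp [h1, h2]
    rw [sum_congr rfl (fun h _ => e1 h), sum_comm]
    refine sum_congr rfl fun a ha => ?_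
    rw [sum_comm, ← add_sum_erase A _ ha]
    congr 1
    · rw [← card_filter]
      congr 1
      exact filter_congr fun h _ => and_self_iff
    · exact sum_congr rfl fun b _ => (card_filter _ _).symm
  have hn2 : m ≤ n := card_le_univ _
  have hQ : n * (n - 1) * P.card + m * (M * (m * (m - 1))) = m * (M * m) * (n - 1) := by
    rw [hPcard, mul_sum]
    have e : ∀ a ∈ A, n * (n - 1) * (univ.filter fun h : H => a ∈ S h ∧ g a ∉ S h).card +
        M * (m * (m - 1)) = M * m * (n - 1) := by
      intro a ha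
      rw [← hN2 a (g a) (fun e => Equiv.Perm.mem_support.mp ha e.symm), ← mul_add, hsplit,
        mul_right_comm, hN1]
    calc _ = ∑ a ∈ A, (n * (n - 1) * (univ.filter fun h : H => a ∈ S h ∧ g a ∉ S h).card +
          M * (m * (m - 1))) := by rw [sum_add_distrib, sum_const, smul_eq_mul]
      _ = _ := by rw [sum_congr rfl e, sum_const, smul_eq_mul, ← mul_assoc]
  have hR : n * (n - 1) * (∑ h : H, (A ∩ S h).card * (A ∩ S h).card) =
      m * (M * m) * (n - 1) + m * ((m - 1) * (M * (m * (m - 1)))) := by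
    rw [hmom, mul_sum, sum_congr rfl (g := fun _ => M * m * (n - 1) +
      (m - 1) * (M * (m * (m - 1)))) ?_, sum_const, smul_eq_mul]
    · ring
    intro a ha
    rw [mul_add, mul_right_comm n (n - 1), hN1, mul_sum,
      sum_congr rfl (fun b hb => hN2 a b (fun e => (mem_erase.mp hb).1 e.symm)), sum_const,
      card_erase_of_mem ha, smul_eq_mul]
  have h3 := Nat.mul_le_mul_left (n * (n - 1)) hup
  rw [hR, mul_left_comm] at h3
  have key : n - 1 ≤ (m + 1) * (m - 1) := by
    obtain ⟨m', hm'⟩ : ∃ m', m = m' + 1 := ⟨m - 1, by omega⟩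
    obtain ⟨n', hn'⟩ : ∃ n', n = n' + 1 := ⟨n - 1, by omega⟩
    simp only [hm', hn', Nat.add_sub_cancel] at hQ h3 ⊢
    by_contra hlt
    have hpos : 0 < M * (m' + 1) * (m' + 1) := by positivity
    nlinarith [Nat.mul_lt_mul_of_pos_left (Nat.lt_of_not_le hlt) hpos, hQ, h3]
  obtain ⟨m', hm'⟩ : ∃ m', m = m' + 1 := ⟨m - 1, by omega⟩
  rw [hm', Nat.add_sub_cancel] at key
  have : (m' + 1) ^ 2 = (m' + 1 + 1) * m' + 1 := by ring
  rw [hm', this]
  omega

end Cfsg.Agent.MinDeg72
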