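import Mathlib.GroupTheory.GroupAction.Primitive
import Mathlib.GroupTheory.GroupAction.MultipleTransitivity
import Mathlib.Combinatorics.SimpleGraph.Connectivity.Connected
import Mathlib.Combinatorics.SimpleGraph.Metric
import Mathlib.Algebra.BigOperators.Ring.Finset
import Mathlib.Tactic

/-!
Babai's bound for uniprimitive groups: any two points are distinguished by many points.
-/

set_option autoImplicit false

namespace Cfsg.Agent.MinDeg72

open Finset
open scoped Pointwise

variable {G Ω : Type*} [Group G] [MulAction G Ω]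

variable (G) in
/-- The colour of an ordered pair: its orbit. -/
def col (u v : Ω) : Set (Ω × Ω) := MulAction.orbit G (u, v)

theorem col_smul (g : G) (u v : Ω) : col G (g • u) (g • v) = col G u v :=
  MulAction.orbit_eq_iff.mpr ⟨g, rfl⟩

theorem exists_of_col_eq {u v u' v' : Ω} (h : col G u v = col G u' v') :
    ∃ g : G, g • u' = u ∧ g • v' = v := by
  obtain ⟨g, hg⟩ := MulAction.orbit_eq_iff.mp h
  exact ⟨g, congrArg Prod.fst hg, congrArg Prod.snd hg⟩

theorem eq_of_col_eq_diag {u v w : Ω} (h : col G u v = col G w w) : u = v := by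
  obtain ⟨g, h1, h2⟩ := exists_of_col_eq h
  rw [← h1, ← h2]

variable [Fintype Ω]

open scoped Classical in
variable (G) in
/-- The points distinguishing `u` and `v`. -/
noncomputable def dset (u v : Ω) : Finset Ω := univ.filter fun z => col G u z ≠ col G v z

theorem dset_comm (u v : Ω) : dset G u v = dset G v u := by
  ext z; simp [dset, ne_comm]

theorem card_dset_triangle (u v w : Ω) :
    (dset G u w).card ≤ (dset G u v).card + (dset G v w).card := by
  classical
  refine le_trans (card_le_card ?_) (card_union_le _ _)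
  intro z hz
  simp only [dset, mem_filter, mem_univ, true_and, mem_union] at hz ⊢
  by_contra h
  push_neg at h
  exact hz (h.1.trans h.2)

theorem card_dset_smul (g : G) (u v : Ω) :
    (dset G (g • u) (g • v)).card = (dset G u v).card := by
  classical
  refine card_nbij' (fun z => g⁻¹ • z) (fun z => g • z) ?_ ?_ ?_ ?_
  · intro z hz
    simp only [dset, coe_filter, mem_univ, true_and, Set.mem_setOf_eq] at hz ⊢
    rw [← col_smul g u, ← col_smul g v, smul_inv_smul]
    exact hz
  · intro z hz
    simp only [dset, coe_filter, mem_univ, true_and, Set.mem_setOf_eq] at hz ⊢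
    rw [col_smul, col_smul]
    exact hz
  · intro z _; simp
  · intro z _; simp

theorem card_dset_eq {u v u' v' : Ω} (h : col G u v = col G u' v') :
    (dset G u v).card = (dset G u' v').card := by
  obtain ⟨g, h1, h2⟩ := exists_of_col_eq h
  rw [← h1, ← h2, card_dset_smul]

open scoped Classical in
variable (G) in
/-- Number of `v` with given colour from `x`. -/
noncomputable def outDeg (i : Set (Ω × Ω)) (x : Ω) : ℕ := (univ.filter fun v => col G x v = i).card

variable [MulAction.IsPretransitive G Ω]

theorem outDeg_eq (i : Set (Ω × Ω)) (x y : Ω) : outDeg G i x = outDeg G i y := by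
  classical
  obtain ⟨g, rfl⟩ := MulAction.exists_smul_eq G x y
  refine card_nbij' (fun v => g • v) (fun v => g⁻¹ • v) ?_ ?_ ?_ ?_
  · intro v hv
    simp only [coe_filter, mem_univ, true_and, Set.mem_setOf_eq] at hv ⊢
    rw [col_smul, hv]
  · intro v hv
    simp only [coe_filter, mem_univ, true_and, Set.mem_setOf_eq] at hv ⊢
    rw [← col_smul g x, smul_inv_smul, hv]
  · intro v _; simp
  · intro v _; simp

open scoped Classical in
theorem inDeg_eq (i : Set (Ω × Ω)) (z x : Ω) :
    (univ.filter fun u => col G u z = i).card = outDeg G i x := by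
  have hin : ∀ y, (univ.filter fun u => col G u y = i).card =
      (univ.filter fun u => col G u z = i).card := by
    intro y
    obtain ⟨g, rfl⟩ := MulAction.exists_smul_eq G z y
    refine card_nbij' (fun v => g⁻¹ • v) (fun v => g • v) ?_ ?_ ?_ ?_
    · intro v hv
      simp only [coe_filter, mem_univ, true_and, Set.mem_setOf_eq] at hv ⊢
      rw [← col_smul g, smul_inv_smul, hv]
    · intro v hv
      simp only [coe_filter, mem_univ, true_and, Set.mem_setOf_eq] at hv ⊢
      rw [col_smul, hv]
    · intro v _; simp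
    · intro v _; simp
  have h : ∑ y : Ω, (univ.filter fun u => col G u y = i).card = ∑ u : Ω, outDeg G i u := by
    simp only [outDeg, card_filter]
    exact sum_comm
  rw [sum_congr rfl (fun y _ => hin y), sum_congr rfl (fun u _ => outDeg_eq i u x)] at h
  simp only [sum_const, card_univ, smul_eq_mul] at h
  exact Nat.eq_of_mul_eq_mul_left (Fintype.card_pos_iff.mpr ⟨x⟩) h

/-- Average distinguishing number when no colour is too big. -/
theorem exists_dset_large (x : Ω) (hbound : ∀ i, 4 * outDeg G i x ≤ 3 * Fintype.card Ω) :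
    ∃ w, 3 * Fintype.card Ω ≤ 8 * (dset G x w).card := by
  classical
  set n := Fintype.card Ω with hn
  have hsum : ∀ z, (univ.filter fun w => col G x z ≠ col G w z).card +
      outDeg G (col G x z) x = n := by
    intro z
    rw [← inDeg_eq (col G x z) z x, add_comm]
    have : (univ.filter fun w => col G x z ≠ col G w z) =
        univ.filter fun w => ¬ col G w z = col G x z := filter_congr fun w _ => ne_comm
    rw [this, card_filter_add_card_filter_not, card_univ]
  have htot : ∑ w, (dset G x w).card + ∑ z, outDeg G (col G x z) x = n * n := by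
    simp only [dset, card_filter]
    rw [sum_comm, ← sum_add_distrib]
    simp only [← card_filter]
    rw [sum_congr rfl (fun z _ => hsum z), sum_const, card_univ, smul_eq_mul]
  have hsq : 8 * ∑ z, outDeg G (col G x z) x ≤ 5 * (n * n) := by
    by_cases hall : ∀ z, 2 * outDeg G (col G x z) x ≤ n
    · have h1 : ∑ z, 2 * outDeg G (col G x z) x ≤ ∑ _z : Ω, n := sum_le_sum fun z _ => hall z
      rw [← mul_sum, sum_const, card_univ, smul_eq_mul, ← hn] at h1
      omega
    · push_neg at hall
      obtain ⟨z₁, hz₁⟩ := hall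
      set i := col G x z₁
      set M := outDeg G i x with hM
      have hsplit := sum_filter_add_sum_filter_not univ (fun z => col G x z = i)
        (fun z => outDeg G (col G x z) x)
      have hA : ∑ z ∈ univ.filter (fun z => col G x z = i), outDeg G (col G x z) x = M * M := by
        rw [sum_congr rfl (g := fun _ => M) fun z hz => by rw [(mem_filter.mp hz).2], sum_const,
          smul_eq_mul]
        rfl
      have hc : M + (univ.filter fun z => ¬ col G x z = i).card = n := by
        rw [hM, outDeg, card_filter_add_card_filter_not, card_univ]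
      have hB : ∑ z ∈ univ.filter (fun z => ¬ col G x z = i), outDeg G (col G x z) x ≤
          (n - M) * (n - M) := by
        refine (sum_le_card_nsmul _ _ (n - M) fun z hz => ?_).trans ?_
        · have hsub : (univ.filter fun v => col G x v = col G x z) ⊆
              univ.filter fun v => ¬ col G x v = i := fun v hv =>
            mem_filter.mpr ⟨mem_univ _, fun e =>
              (mem_filter.mp hz).2 ((mem_filter.mp hv).2.symm.trans e)⟩
          have := card_le_card hsub
          change (univ.filter fun v => col G x v = col G x z).card ≤ n - M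
          omega
        · rw [smul_eq_mul]
          exact Nat.mul_le_mul_right _ (by omega)
      have hb := hbound i
      rw [← hM] at hb
      obtain ⟨r, hr⟩ : ∃ r, n = M + r := ⟨n - M, by omega⟩
      rw [hr, Nat.add_sub_cancel_left] at hB
      rw [← hsplit, hA, hr]
      nlinarith
  have hge : ∑ _w : Ω, 3 * n ≤ ∑ w, 8 * (dset G x w).card := by
    rw [sum_const, card_univ, smul_eq_mul, ← mul_sum, ← hn]
    nlinarith
  obtain ⟨w, -, hw⟩ := exists_le_of_sum_le ⟨x, mem_univ x⟩ hge
  exact ⟨w, hw⟩

variable (G) in
/-- The undirected orbital graph of the colour of `(x₀, y₀)`. -/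
def orbGraph (x₀ y₀ : Ω) : SimpleGraph Ω :=
  SimpleGraph.fromRel fun u v => col G u v = col G x₀ y₀

variable {x₀ y₀ : Ω}

omit [Fintype Ω] [MulAction.IsPretransitive G Ω] in
theorem orb_adj_smul (g : G) {u v : Ω} (h : (orbGraph G x₀ y₀).Adj u v) :
    (orbGraph G x₀ y₀).Adj (g • u) (g • v) := by
  simp only [orbGraph, SimpleGraph.fromRel_adj, col_smul] at h ⊢
  exact ⟨fun e => h.1 (smul_left_cancel g e), h.2⟩

omit [Fintype Ω] [MulAction.IsPretransitive G Ω] in
theorem orb_dset [Fintype Ω] {u v : Ω} (h : (orbGraph G x₀ y₀).Adj u v) :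
    (dset G u v).card = (dset G x₀ y₀).card := by
  rcases h.2 with h1 | h1
  · exact card_dset_eq h1
  · rw [dset_comm]; exact card_dset_eq h1

omit [Fintype Ω] [MulAction.IsPretransitive G Ω] in
theorem orb_connected (hprim : MulAction.IsPreprimitive G Ω) (hne : x₀ ≠ y₀) :
    (orbGraph G x₀ y₀).Connected := by
  set Γ := orbGraph G x₀ y₀ with hΓ
  haveI : Nonempty Ω := ⟨x₀⟩
  have hmap : ∀ (g : G) {u v : Ω}, Γ.Reachable u v → Γ.Reachable (g • u) (g • v) :=
    fun g {u v} h => h.map (⟨fun u => g • u, fun h => orb_adj_smul g h⟩ : Γ →g Γ)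
  let B : Set Ω := {v | Γ.Reachable x₀ v}
  have hB : MulAction.IsBlock G B := by
    rw [MulAction.isBlock_iff_smul_eq_or_disjoint]
    intro g
    rcases Set.disjoint_or_nonempty_inter (g • B) B with h | ⟨w, hw1, hw2⟩
    · exact Or.inr h
    left
    obtain ⟨v, hv, rfl⟩ := hw1
    have hgx : Γ.Reachable x₀ (g • x₀) := hw2.trans (hmap g hv).symm
    ext z
    constructor
    · rintro ⟨u, hu, rfl⟩
      exact hgx.trans (hmap g hu)
    · intro hz
      refine ⟨g⁻¹ • z, ?_, smul_inv_smul g z⟩
      have := hmap g⁻¹ (hgx.symm.trans hz)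
      rwa [inv_smul_smul] at this
  have hx : x₀ ∈ B := SimpleGraph.Reachable.refl x₀
  have hadj : Γ.Adj x₀ y₀ := by
    simp only [hΓ, orbGraph, SimpleGraph.fromRel_adj]
    exact ⟨hne, Or.inl trivial⟩
  rcases hprim.isTrivialBlock_of_isBlock hB with h | h
  · exact absurd (h hx hadj.reachable) hne
  · refine ⟨fun u v => ?_⟩
    have hu : u ∈ B := h ▸ Set.mem_univ u
    have hv : v ∈ B := h ▸ Set.mem_univ v
    exact hu.symm.trans hv

omit [Fintype Ω] [MulAction.IsPretransitive G Ω] in
theorem orb_dist_smul (hc : (orbGraph G x₀ y₀).Connected) (g : G) (u v : Ω) :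
    (orbGraph G x₀ y₀).dist (g • u) (g • v) = (orbGraph G x₀ y₀).dist u v := by
  set Γ := orbGraph G x₀ y₀ with hΓ
  have key : ∀ (g : G) (u v : Ω), Γ.dist (g • u) (g • v) ≤ Γ.dist u v := by
    intro g u v
    obtain ⟨p, hp⟩ := (hc u v).exists_walk_length_eq_dist
    refine (SimpleGraph.dist_le
      (p.map (⟨fun u => g • u, fun h => orb_adj_smul g h⟩ : Γ →g Γ))).trans ?_
    rw [SimpleGraph.Walk.length_map, hp]
  refine le_antisymm (key g u v) ?_
  have := key g⁻¹ (g • u) (g • v)
  rwa [inv_smul_smul, inv_smul_smul] at this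

open scoped Classical in
/-- The degree of the orbital graph. -/
noncomputable def orbDeg (G : Type*) [Group G] [MulAction G Ω] (x₀ y₀ u : Ω) : ℕ :=
  (univ.filter fun v => (orbGraph G x₀ y₀).Adj u v).card

theorem orbDeg_eq (u v : Ω) : orbDeg G x₀ y₀ u = orbDeg G x₀ y₀ v := by
  classical
  obtain ⟨g, rfl⟩ := MulAction.exists_smul_eq G u v
  refine card_nbij' (fun v => g • v) (fun v => g⁻¹ • v) ?_ ?_ ?_ ?_
  · intro w hw
    simp only [coe_filter, mem_univ, true_and, Set.mem_setOf_eq] at hw ⊢
    exact orb_adj_smul g hw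
  · intro w hw
    simp only [coe_filter, mem_univ, true_and, Set.mem_setOf_eq] at hw ⊢
    simpa using orb_adj_smul g⁻¹ hw
  · intro v _; simp
  · intro v _; simp

/-- Every edge is distinguished often, relative to the degree. -/
theorem deg_mul_dset_ge (hprim : MulAction.IsPreprimitive G Ω) (hne : x₀ ≠ y₀) :
    2 * (Fintype.card Ω - 1) ≤ orbDeg G x₀ y₀ x₀ * (dset G x₀ y₀).card := by
  classical
  set Γ := orbGraph G x₀ y₀ with hΓ
  have hc : Γ.Connected := orb_connected hprim hne
  have hpred : ∀ z v : Ω, v ≠ z → ∃ p, Γ.Adj v p ∧ Γ.dist p z + 1 = Γ.dist v z := by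
    intro z v hv
    obtain ⟨q, hq⟩ := (hc v z).exists_walk_length_eq_dist
    cases q with
    | nil => exact absurd rfl hv
    | @cons _ p _ hadj q' =>
      refine ⟨p, hadj, le_antisymm ?_ ?_⟩
      · have := SimpleGraph.dist_le q'
        rw [SimpleGraph.Walk.length_cons] at hq
        omega
      · have h1 := hc.dist_triangle (u := v) (v := p) (w := z)
        rw [SimpleGraph.dist_eq_one_iff_adj.mpr hadj] at h1
        omega
  let P : Ω → Finset (Ω × Ω) := fun z =>
    univ.filter fun p => Γ.Adj p.1 p.2 ∧ col G p.1 z ≠ col G p.2 z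
  have hlow : ∀ z, 2 * (Fintype.card Ω - 1) ≤ (P z).card := by
    intro z
    choose! pr hpr1 hpr2 using hpred z
    have hcol : ∀ v, v ≠ z → col G v z ≠ col G (pr v) z := by
      intro v hv e
      obtain ⟨g, h1, h2⟩ := exists_of_col_eq e
      have := orb_dist_smul hc g (pr v) z
      rw [h1, h2, ← hΓ] at this
      have := hpr2 v hv
      omega
    let A : Finset (Ω × Ω) := (univ.erase z).image fun v => (v, pr v)
    let B : Finset (Ω × Ω) := (univ.erase z).image fun v => (pr v, v)
    have hA : A.card = Fintype.card Ω - 1 := by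
      rw [card_image_of_injective _ fun a b e => congrArg Prod.fst e,
        card_erase_of_mem (mem_univ z), card_univ]
    have hB : B.card = Fintype.card Ω - 1 := by
      rw [card_image_of_injective _ fun a b e => congrArg Prod.snd e,
        card_erase_of_mem (mem_univ z), card_univ]
    have hd : Disjoint A B := by
      rw [disjoint_left]
      intro p hpA hpB
      obtain ⟨v, hv, rfl⟩ := mem_image.mp hpA
      obtain ⟨w, hw, e⟩ := mem_image.mp hpB
      have h1 := hpr2 v (mem_erase.mp hv).1
      have h2 := hpr2 w (mem_erase.mp hw).1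
      rw [Prod.mk.injEq] at e
      rw [e.1, e.2] at h2
      omega
    have hsub : A ∪ B ⊆ P z := by
      intro p hp
      rcases mem_union.mp hp with h | h <;> obtain ⟨v, hv, rfl⟩ := mem_image.mp h <;>
        refine mem_filter.mpr ⟨mem_univ _, ?_⟩
      · exact ⟨hpr1 v (mem_erase.mp hv).1, hcol v (mem_erase.mp hv).1⟩
      · exact ⟨(hpr1 v (mem_erase.mp hv).1).symm, (hcol v (mem_erase.mp hv).1).symm⟩
    have := card_le_card hsub
    rw [card_union_of_disjoint hd, hA, hB] at this
    omega
  have htot : ∑ z, (P z).card =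
      Fintype.card Ω * (orbDeg G x₀ y₀ x₀ * (dset G x₀ y₀).card) := by
    simp only [P, card_filter]
    rw [sum_comm, Fintype.sum_prod_type]
    rw [← smul_eq_mul, ← card_univ, ← sum_const]
    refine sum_congr rfl fun u _ => ?_
    calc ∑ v : Ω, ∑ z : Ω, (if Γ.Adj u v ∧ col G u z ≠ col G v z then 1 else 0)
        = ∑ v : Ω, if Γ.Adj u v then (dset G x₀ y₀).card else 0 := by
          refine sum_congr rfl fun v _ => ?_
          by_cases h : Γ.Adj u v
          · rw [if_pos h, ← orb_dset h, dset, card_filter]
            exact sum_congr rfl fun z _ => by simp [h]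
          · simp [h]
      _ = orbDeg G x₀ y₀ x₀ * (dset G x₀ y₀).card := by
          rw [← sum_filter, sum_const, smul_eq_mul, ← orbDeg_eq u x₀]
          rfl
  have h1 : ∑ _z : Ω, 2 * (Fintype.card Ω - 1) ≤ ∑ z, (P z).card := sum_le_sum fun z _ => hlow z
  rw [htot, sum_const, card_univ, smul_eq_mul] at h1
  exact Nat.le_of_mul_le_mul_left h1 (Fintype.card_pos_iff.mpr ⟨x₀⟩)

theorem dset_le_dist_mul (hc : (orbGraph G x₀ y₀).Connected) (u v : Ω) :
    (dset G u v).card ≤ (orbGraph G x₀ y₀).dist u v * (dset G x₀ y₀).card := by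
  obtain ⟨p, hp⟩ := (hc u v).exists_walk_length_eq_dist
  rw [← hp]
  clear hp
  induction p with
  | nil => simp [dset]
  | @cons a b c h q ih =>
    rw [SimpleGraph.Walk.length_cons, add_mul, one_mul, add_comm]
    exact (card_dset_triangle a b c).trans (Nat.add_le_add (orb_dset h).le ih)

/-- Packing closed neighbourhoods along a geodesic. -/
theorem packing (hc : (orbGraph G x₀ y₀).Connected) (x w : Ω) (q : ℕ) (R : Finset Ω)
    (hq : 3 * (q - 1) ≤ (orbGraph G x₀ y₀).dist x w)
    (hR : ∀ v, (orbGraph G x₀ y₀).dist x v ≤ 3 * (q - 1) + 1 → v ∈ R) :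
    q * (orbDeg G x₀ y₀ x₀ + 1) ≤ R.card := by
  classical
  set Γ := orbGraph G x₀ y₀ with hΓ
  obtain ⟨p, hp⟩ := (hc x w).exists_walk_length_eq_dist
  let c : ℕ → Ω := fun i => p.getVert (3 * i)
  have hci : ∀ i, i < q → Γ.dist x (c i) = 3 * i := by
    intro i hi
    have h1 : Γ.dist x (c i) ≤ 3 * i :=
      (SimpleGraph.dist_le (p.take (3 * i))).trans (by
        rw [SimpleGraph.Walk.take_length]; exact min_le_left _ _)
    have h2 : Γ.dist (c i) w ≤ p.length - 3 * i :=
      (SimpleGraph.dist_le (p.drop (3 * i))).trans (by rw [SimpleGraph.Walk.drop_length])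
    have h3 := hc.dist_triangle (u := x) (v := c i) (w := w)
    omega
  let N : ℕ → Finset Ω := fun i => insert (c i) (univ.filter fun v => Γ.Adj (c i) v)
  have hN : ∀ i, (N i).card = orbDeg G x₀ y₀ x₀ + 1 := by
    intro i
    rw [card_insert_of_notMem (by simp), ← orbDeg_eq (c i) x₀]
    rfl
  have hnear : ∀ i, ∀ v ∈ N i, Γ.dist (c i) v ≤ 1 := by
    intro i v hv
    rcases mem_insert.mp hv with rfl | hv
    · simp
    · exact (SimpleGraph.dist_eq_one_iff_adj.mpr (mem_filter.mp hv).2).le
  have hdisj : Set.PairwiseDisjoint ↑(range q) N := by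
    intro i hi j hj hij
    rw [Function.onFun, disjoint_left]
    intro v hvi hvj
    have hi' := hci i (mem_range.mp hi)
    have hj' := hci j (mem_range.mp hj)
    have a1 := hnear i v hvi
    have a2 := hnear j v hvj
    have b1 := hc.dist_triangle (u := x) (v := c i) (w := v)
    have b2 := hc.dist_triangle (u := x) (v := v) (w := c j)
    have b3 := hc.dist_triangle (u := x) (v := c j) (w := v)
    have b4 := hc.dist_triangle (u := x) (v := v) (w := c i)
    rw [SimpleGraph.dist_comm (u := v)] at b2 b4
    omega
  have hsub : (range q).biUnion N ⊆ R := by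
    intro v hv
    obtain ⟨i, hi, hv⟩ := mem_biUnion.mp hv
    refine hR v ?_
    have hi' := hci i (mem_range.mp hi)
    have a1 := hnear i v hv
    have b1 := hc.dist_triangle (u := x) (v := c i) (w := v)
    have := mem_range.mp hi
    omega
  have := card_le_card hsub
  rw [card_biUnion hdisj, sum_congr rfl (fun i _ => hN i), sum_const, card_range,
    smul_eq_mul] at this
  exact this

/-- Babai's bound. -/
theorem dset_sq_ge (hprim : MulAction.IsPreprimitive G Ω)
    (h2t : ¬ MulAction.IsMultiplyPretransitive G Ω 2) {x y : Ω} (hxy : x ≠ y) :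
    Fintype.card Ω ≤ (2 * (dset G x y).card + 1) ^ 2 := by
  classical
  set n := Fintype.card Ω with hn
  set D := (dset G x y).card with hD
  have hn2 : 2 ≤ n := Fintype.one_lt_card_iff.mpr ⟨x, y, hxy⟩
  have hfin : n - 1 ≤ 4 * (D * D) → n ≤ (2 * D + 1) ^ 2 := by
    intro h
    have : (2 * D + 1) ^ 2 = 4 * (D * D) + 4 * D + 1 := by ring
    omega
  apply hfin
  have hc := orb_connected (G := G) hprim hxy
  set k := orbDeg G x y x with hk
  have hkD : 2 * (n - 1) ≤ k * D := deg_mul_dset_ge hprim hxy
  by_cases hbound : ∀ i, 4 * outDeg G i x ≤ 3 * n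
  · obtain ⟨w, hw⟩ := exists_dset_large x hbound
    rw [← hn] at hw
    set L := (orbGraph G x y).dist x w
    have h1 : (dset G x w).card ≤ L * D := dset_le_dist_mul hc x w
    have h2 := packing hc x w (L / 3 + 1) univ (by omega) (fun v _ => mem_univ v)
    rw [card_univ, ← hn, ← hk] at h2
    have h3 : (L + 1) * (k + 1) ≤ 3 * n :=
      calc (L + 1) * (k + 1) ≤ (3 * (L / 3 + 1)) * (k + 1) := Nat.mul_le_mul_right _ (by omega)
        _ = 3 * ((L / 3 + 1) * (k + 1)) := by ring
        _ ≤ 3 * n := Nat.mul_le_mul_left _ h2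
    have h4 : L * (k + 1) ≤ L * (8 * D) := by nlinarith
    have hLpos : 0 < L := by
      rcases Nat.eq_zero_or_pos L with h0 | h0
      · rw [h0, zero_mul] at h1; omega
      · exact h0
    have h5 := Nat.le_of_mul_le_mul_left h4 hLpos
    nlinarith
  -- a dominant colour
  push_neg at hbound
  obtain ⟨j, hj⟩ := hbound
  obtain ⟨y₁, hy₁⟩ : (univ.filter fun v => col G x v = j).Nonempty := by
    rw [← card_pos]
    change 0 < outDeg G j x
    omega
  have hy₁' : col G x y₁ = j := (mem_filter.mp hy₁).2
  have hpos2 : ∀ (P Q : Finset Ω), n < P.card + Q.card → ∃ v, v ∈ P ∧ v ∈ Q := by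
    intro P Q h
    by_contra hno
    push_neg at hno
    have : (P ∪ Q).card = P.card + Q.card := card_union_of_disjoint (disjoint_left.mpr hno)
    have := card_le_univ (P ∪ Q)
    omega
  have hout : ∀ u, outDeg G j u = outDeg G j x := fun u => outDeg_eq j u x
  have hsym : ∀ u v, col G u v = j → col G v u = j := by
    obtain ⟨v, hv1, hv2⟩ := hpos2 (univ.filter fun v => col G x v = j)
      (univ.filter fun v => col G v x = j) (by
        rw [inDeg_eq j x x]; change n < outDeg G j x + outDeg G j x; omega)
    intro a b hab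
    obtain ⟨g, h1, h2⟩ := exists_of_col_eq (hab.trans (mem_filter.mp hv1).2.symm)
    rw [← h1, ← h2, col_smul]
    exact (mem_filter.mp hv2).2
  have hjne : ∀ u, col G u u ≠ j := by
    intro u e
    have h1 : outDeg G j u ≤ 1 := card_le_one.mpr fun a ha b hb => by
      have ha' := eq_of_col_eq_diag ((mem_filter.mp ha).2.trans e.symm)
      have hb' := eq_of_col_eq_diag ((mem_filter.mp hb).2.trans e.symm)
      rw [← ha', ← hb']
    rw [hout] at h1
    omega
  set n₁ := outDeg G j x with hn₁
  let S : Ω → Finset Ω := fun u => univ.filter fun z => z ≠ u ∧ col G u z ≠ j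
  set s := (S x).card with hs
  have hScard : ∀ u, n₁ + (S u).card + 1 = n := by
    intro u
    have h1 : (univ.filter fun z => col G u z = j).card +
        (univ.filter fun z => ¬ col G u z = j).card = n := by
      rw [card_filter_add_card_filter_not, card_univ]
    have h2 : (univ.filter fun z => ¬ col G u z = j) = insert u (S u) := by
      ext z
      simp only [mem_filter, mem_univ, true_and, mem_insert, S]
      constructor
      · intro hz; by_cases hzu : z = u
        · exact Or.inl hzu
        · exact Or.inr ⟨hzu, hz⟩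
      · rintro (rfl | ⟨-, hz⟩)
        · exact hjne z
        · exact hz
    rw [h2, card_insert_of_notMem (by simp [S]), show (univ.filter fun z => col G u z = j).card =
      outDeg G j u from rfl, hout u] at h1
    omega
  have hSs : ∀ u, (S u).card = s := fun u => by have := hScard u; have := hScard x; omega
  have hSsym : ∀ u v, v ∈ S u → u ∈ S v := by
    intro u v hv
    simp only [S, mem_filter, mem_univ, true_and] at hv ⊢
    exact ⟨hv.1.symm, fun e => hv.2 (hsym _ _ e)⟩
  -- two points of dominant colour share few neighbours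
  have hWall : ∀ w, col G x w = j → 4 * s + 2 ≤ 3 * (dset G x w).card := by
    intro w hw
    set μ := (S x ∩ S w).card with hμ
    have hμc : ∀ v, col G x v = j → (S x ∩ S v).card = μ := by
      intro v hv
      obtain ⟨g, h1, h2⟩ := exists_of_col_eq (hv.trans hw.symm)
      have hS' : ∀ u z, g • z ∈ S (g • u) ↔ z ∈ S u := fun u z => by
        simp [S, col_smul]
      have hSeq : ∀ z, g • z ∈ S x ∩ S v ↔ z ∈ S x ∩ S w := fun z => by
        rw [mem_inter, mem_inter, ← hS' x z, ← hS' w z, h1, h2]
      refine card_nbij' (fun z => g⁻¹ • z) (fun z => g • z) ?_ ?_ ?_ ?_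
      · intro z hz
        show g⁻¹ • z ∈ S x ∩ S w
        rw [← hSeq, smul_inv_smul]
        exact hz
      · intro z hz
        exact (hSeq z).mpr hz
      · intro z _; simp
      · intro z _; simp
    have hcount : n₁ * μ + s ≤ s * s := by
      have h1 : ∑ v ∈ univ.filter (fun v => col G x v = j), (S x ∩ S v).card + s ≤
          ∑ v ∈ univ, (S x ∩ S v).card := by
        rw [← sum_filter_add_sum_filter_not univ (fun v => col G x v = j)]
        refine Nat.add_le_add_left ?_ _
        refine le_trans ?_ (single_le_sum (f := fun v => (S x ∩ S v).card)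
          (fun v _ => Nat.zero_le _) (show x ∈ univ.filter (fun v => ¬ col G x v = j) from
            mem_filter.mpr ⟨mem_univ _, hjne x⟩))
        rw [inter_self]
      have h2 : ∑ v ∈ (univ : Finset Ω), (S x ∩ S v).card = s * s := by
        have e : ∀ v, (S x ∩ S v).card = ∑ z ∈ S x, if v ∈ S z then 1 else 0 := by
          intro v
          rw [← card_filter]
          congr 1
          ext z
          simp only [mem_inter, mem_filter]
          exact ⟨fun h => ⟨h.1, hSsym _ _ h.2⟩, fun h => ⟨h.1, hSsym _ _ h.2⟩⟩
        rw [sum_congr rfl (fun v _ => e v), sum_comm]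
        rw [sum_congr rfl (g := fun _ => s) fun z _ => by
          rw [← card_filter, filter_mem_eq_inter, univ_inter, hSs], sum_const, smul_eq_mul]
      rw [h2, sum_congr rfl (g := fun _ => μ) fun v hv => hμc v (mem_filter.mp hv).2, sum_const,
        smul_eq_mul, show (univ.filter fun v => col G x v = j).card = n₁ from rfl] at h1
      exact h1
    have hW : (S x \ S w).card + (S w \ S x).card ≤ (dset G x w).card := by
      rw [← card_union_of_disjoint disjoint_sdiff_sdiff]
      refine card_le_card ?_
      intro z hz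
      simp only [mem_union, mem_sdiff, S, mem_filter, mem_univ, true_and, dset, not_and,
        not_not] at hz ⊢
      rcases hz with ⟨⟨hz1, hz2⟩, hz3⟩ | ⟨⟨hz1, hz2⟩, hz3⟩
      · rw [hz3 (fun e => hz2 (e ▸ hw))]
        exact hz2
      · rw [hz3 (fun e => hz2 (e ▸ hsym _ _ hw))]
        exact hz2.symm
    have e1 := card_sdiff_add_card_inter (S x) (S w)
    have e2 := card_sdiff_add_card_inter (S w) (S x)
    rw [inter_comm (S w) (S x), hSs w, ← hμ] at e2
    rw [← hμ, ← hs] at e1
    have hsn : 3 * s ≤ n₁ := by have := hScard x; omega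
    have h3μ : 3 * μ + 1 ≤ s := by
      have hspos : 0 < s := by
        by_contra h0
        apply h2t
        rw [MulAction.is_two_pretransitive_iff]
        intro a b c d hab hcd
        have key : ∀ u v : Ω, u ≠ v → col G u v = j := by
          intro u v huv
          by_contra hne'
          have hmem : v ∈ S u := mem_filter.mpr ⟨mem_univ _, huv.symm, hne'⟩
          have := card_pos.mpr ⟨v, hmem⟩
          rw [hSs u] at this
          omega
        exact exists_of_col_eq ((key c d hcd).trans (key a b hab).symm)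
      have h1 : s * (3 * μ + 1) ≤ s * s := by nlinarith
      exact Nat.le_of_mul_le_mul_left h1 hspos
    omega
  have hspos : 0 < s := by
    by_contra h0
    apply h2t
    rw [MulAction.is_two_pretransitive_iff]
    intro a b c d hab hcd
    have key : ∀ u v : Ω, u ≠ v → col G u v = j := by
      intro u v huv
      by_contra hne'
      have hmem : v ∈ S u := mem_filter.mpr ⟨mem_univ _, huv.symm, hne'⟩
      have := card_pos.mpr ⟨v, hmem⟩
      rw [hSs u] at this
      omega
    exact exists_of_col_eq ((key c d hcd).trans (key a b hab).symm)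
  have hdegS : ∀ u v, u ≠ v → col G u v ≠ j → orbDeg G u v u ≤ s := by
    intro u v huv hne'
    rw [← hSs u]
    refine card_le_card fun z hz => ?_
    simp only [orbGraph, SimpleGraph.fromRel_adj, mem_filter, mem_univ, true_and, S] at hz ⊢
    refine ⟨hz.1.symm, fun e => hne' ?_⟩
    rcases hz.2 with h | h
    · exact h.symm.trans e
    · exact h.symm.trans (hsym _ _ e)
  by_cases hcol : col G x y = j
  · -- the dominant colour itself
    have hDD : 4 * s + 2 ≤ 3 * D := hWall y hcol
    obtain ⟨v, hv⟩ := card_pos.mp hspos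
    have hv' : v ≠ x ∧ col G x v ≠ j := (mem_filter.mp hv).2
    obtain ⟨w, hw1, hw2⟩ := hpos2 (univ.filter fun z => col G x z = j)
      (univ.filter fun z => col G v z = j) (by
        change n < outDeg G j x + outDeg G j v; rw [hout v]; omega)
    have h2D : (dset G x v).card ≤ D + D := by
      refine (card_dset_triangle x w v).trans (Nat.add_le_add ?_ ?_)
      · rw [hD, card_dset_eq ((mem_filter.mp hw1).2.trans hcol.symm)]
      · rw [dset_comm, hD, card_dset_eq ((mem_filter.mp hw2).2.trans hcol.symm)]
    have h5 := deg_mul_dset_ge hprim hv'.1.symm (G := G) (x₀ := x) (y₀ := v)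
    rw [← hn] at h5
    have h6 := hdegS x v hv'.1.symm hv'.2
    have h7 : 2 * (n - 1) ≤ s * (D + D) := h5.trans (Nat.mul_le_mul h6 h2D)
    nlinarith
  · have hks : k ≤ s := hdegS x y hxy hcol
    -- nearest point of dominant colour
    have hW := hWall y₁ hy₁'
    set L := (orbGraph G x y).dist x y₁ with hL
    have h1 : (dset G x y₁).card ≤ L * D := dset_le_dist_mul hc x y₁
    have hL2 : 2 ≤ L := by
      by_contra hlt
      have hne1 : x ≠ y₁ := fun e => hjne x (e ▸ hy₁')
      have hpos := hc.pos_dist_of_ne hne1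
      have hadj := SimpleGraph.dist_eq_one_iff_adj.mp (show (orbGraph G x y).dist x y₁ = 1 by omega)
      rcases hadj.2 with h | h
      · exact hcol (h.symm.trans hy₁')
      · exact hcol (h.symm.trans (hsym _ _ hy₁'))
    have hball : ∀ v, (orbGraph G x y).dist x v ≤ 3 * ((L - 2) / 3 + 1 - 1) + 1 →
        v ∈ insert x (S x) := by
      intro v hv
      by_contra hmem
      simp only [mem_insert, S, mem_filter, mem_univ, true_and, not_or, not_and, not_not] at hmem
      obtain ⟨g, h1', h2'⟩ := exists_of_col_eq ((hmem.2 hmem.1).trans hy₁'.symm)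
      have := orb_dist_smul hc g x y₁
      rw [h1', h2', ← hL] at this
      omega
    have h2 := packing hc x y₁ ((L - 2) / 3 + 1) (insert x (S x)) (by omega) hball
    rw [card_insert_of_notMem (by simp [S]), ← hk, ← hs] at h2
    have h3 : L * (k + 1) ≤ 4 * (s + 1) := by
      have e : (L - 1) * (k + 1) ≤ 3 * (s + 1) :=
        calc (L - 1) * (k + 1) ≤ (3 * ((L - 2) / 3 + 1)) * (k + 1) :=
              Nat.mul_le_mul_right _ (by omega)
          _ = 3 * (((L - 2) / 3 + 1) * (k + 1)) := by ring
          _ ≤ 3 * (s + 1) := Nat.mul_le_mul_left _ h2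
      have : L * (k + 1) = (L - 1) * (k + 1) + (k + 1) := by
        conv_lhs => rw [show L = (L - 1) + 1 by omega]
        ring
      omega
    have h4 : L * (k + 1) * (s + 1) ≤ L * (4 * D) * (s + 1) := by
      calc L * (k + 1) * (s + 1) ≤ 4 * (s + 1) * (s + 1) := Nat.mul_le_mul_right _ h3
        _ ≤ L * (4 * D) * (s + 1) := by
          refine Nat.mul_le_mul_right _ ?_
          calc 4 * (s + 1) ≤ 4 * (L * D) := Nat.mul_le_mul_left _ (by omega)
            _ = L * (4 * D) := by ring
    have h5 : k + 1 ≤ 4 * D :=
      Nat.le_of_mul_le_mul_left (Nat.le_of_mul_le_mul_right h4 (by omega)) (by omega)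
    nlinarith

end Cfsg.Agent.MinDeg72
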